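import Groth.Agent.L15.ExtSupp.SectAcyclic
import Groth.Agent.L15.ModTensor.RestrDerived
import Groth.Agent.L10.DeltaUniv
import Groth.Agent.L10.RDer.Horseshoe
import Groth.Prelude.Def_ModSite2
import Groth.Prelude.Def_RDerDelta

/-! Local cohomology sheaves commute with restriction of scalars. -/

set_option autoImplicit false
set_option backward.defeqAttrib.useBackward true
set_option backward.isDefEq.respectTransparency false

universe u

open CategoryTheory CategoryTheory.Limits Opposite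

noncomputable section

namespace Groth.L10.SuppScalars

variable {C : Type u} [SmallCategory C] {J : GrothendieckTopology C} {O O' : Sheaf J CommRingCat.{u}} (φ : O ⟶ O')

/-- restriction of scalars -/
abbrev rsc : ModSite.Mod O' ⥤ ModSite.Mod O :=
  SheafOfModules.restrictScalars.{u} ((sheafCompose J (forget₂ CommRingCat.{u} RingCat.{u})).map φ)

theorem shortExact_rsc (S : ShortComplex (ModSite.Mod O')) (hS : S.ShortExact) : (S.map (rsc φ)).ShortExact := by
  let Φ := SheafOfModules.toSheaf.{u} (ModSite.ringSh O)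
  have h : ((S.map (rsc φ)).map Φ).ShortExact := Groth.L10.ModAcyc.shortExact_toSheaf O' hS
  haveI := Groth.L10.ModAcyc.preservesFiniteLimits_toSheaf O
  exact { exact := Φ.reflects_exact_of_faithful _ h.exact
          mono_f := Φ.mono_of_mono_map (show Mono (Φ.map (S.map (rsc φ)).f) from h.mono_f)
          epi_g := Φ.epi_of_epi_map (show Epi (Φ.map (S.map (rsc φ)).g) from h.epi_g) }

instance exact_rsc_limits : PreservesFiniteLimits (rsc φ) :=
  (((rsc φ).exact_tfae.out 0 3 rfl rfl).1 (shortExact_rsc φ)).1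

instance exact_rsc_colimits : PreservesFiniteColimits (rsc φ) :=
  (((rsc φ).exact_tfae.out 0 3 rfl rfl).1 (shortExact_rsc φ)).2

variable (U : C) [ModSite.HasPushOver O U] [ModSite.HasPushOver O' U]

theorem rsc_ι_comp_unit (F : ModSite.Mod O') :
    (rsc φ).map ((ModSite.sectOnι O' U).app F) ≫
      (ModSite.restrPushOverAdj O U).unit.app ((rsc φ).obj F) = 0 := by
  refine (Groth.L15.ExtSupp.unit_comp_eq_zero_iff U _).2 ?_
  have h : (ModSite.restr O' U).map ((ModSite.sectOnι O' U).app F) = 0 :=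
    (Groth.L15.ExtSupp.unit_comp_eq_zero_iff U _).1 (kernel.condition _)
  refine Groth.L15.ExtSupp.restr_map_eq_zero U _ fun V g x => ?_
  exact Groth.L15.ExtSupp.val_app_eq_zero_of_restr U _ h (V := V) g x

theorem ι_comp_rsc_unit (F : ModSite.Mod O') :
    (ModSite.sectOnι O U).app ((rsc φ).obj F) ≫
      (rsc φ).map ((ModSite.restrPushOverAdj O' U).unit.app F) = 0 := by
  let ι := (ModSite.sectOnι O U).app ((rsc φ).obj F)
  have h : (ModSite.restr O U).map ι = 0 :=
    (Groth.L15.ExtSupp.unit_comp_eq_zero_iff U _).1 (kernel.condition _)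
  refine SheafOfModules.Hom.ext (PresheafOfModules.hom_ext fun T => ModuleCat.hom_ext (LinearMap.ext fun y => ?_))
  show ((ModSite.restrPushOverAdj O' U).unit.app F).val.app (op T.unop) (ι.val.app T y) = 0
  refine Groth.L15.SectAcyclic.unit_app_eq_zero (O := O') (U := U) F _ fun W f g => ?_
  refine (Groth.L15.ExtSupp.res_natural ι f y).trans ?_
  exact Groth.L15.ExtSupp.val_app_eq_zero_of_restr U ι h g _

/-- sections with supports commute with restriction of scalars, on objects -/
def sectOnApp (F : ModSite.Mod O') :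
    (rsc φ).obj ((ModSite.sectOn O' U).obj F) ≅ (ModSite.sectOn O U).obj ((rsc φ).obj F) :=
  Groth.L15.ModTensor.kerIso (rsc φ) ((ModSite.restrPushOverAdj O' U).unit.app F)
    ((ModSite.restrPushOverAdj O U).unit.app ((rsc φ).obj F))
    (rsc_ι_comp_unit φ U F) (ι_comp_rsc_unit φ U F)

/-- sections with supports commute with restriction of scalars -/
def sectOnIso : ModSite.sectOn O' U ⋙ rsc φ ≅ rsc φ ⋙ ModSite.sectOn O U :=
  NatIso.ofComponents (sectOnApp φ U) fun {F G} a => by
    refine (cancel_mono ((ModSite.sectOnι O U).app ((rsc φ).obj G))).1 ?_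
    have e₁ : ∀ H : ModSite.Mod O', (sectOnApp φ U H).hom ≫
        (ModSite.sectOnι O U).app ((rsc φ).obj H) =
          (rsc φ).map ((ModSite.sectOnι O' U).app H) := fun H => Groth.L15.ModTensor.kerIso_hom_ι _ _ _ _ _
    have e₂ := (ModSite.sectOnι O U).naturality ((rsc φ).map a)
    rw [Category.assoc, Category.assoc, e₁]
    refine Eq.trans ?_ (congrArg ((sectOnApp φ U F).hom ≫ ·) e₂.symm)
    refine Eq.trans ?_ ((congrArg (· ≫ (rsc φ).map a) (e₁ F)).symm.trans (Category.assoc _ _ _))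
    rw [← Functor.map_comp]
    show (rsc φ).map ((ModSite.sectOn O' U).map a) ≫ _ = _
    rw [← Functor.map_comp, (ModSite.sectOnι O' U).naturality a]
    rfl

variable [HasInjectiveResolutions (ModSite.Mod O)] [HasInjectiveResolutions (ModSite.Mod O')]

theorem nonempty_iso (q : ℕ) : Nonempty (ModSite.HZsh O' U q ⋙ rsc φ ≅ rsc φ ⋙ ModSite.HZsh O U q) := by
  haveI := Groth.L15.ExtSupp.enoughInjectives (A := ModSite.Mod O')
  haveI : PreservesFiniteLimits (ModSite.sectOn O U) := by
    haveI := (Groth.L15.ExtSupp.quotSectAdj (O := O) U).rightAdjoint_preservesLimits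
    infer_instance
  let F₀ := rsc φ ⋙ ModSite.sectOn O U
  haveI : PreservesFiniteLimits F₀ := comp_preservesFiniteLimits _ _
  let Δ : RDer.DerivedLES F₀ := Groth.L10.RDerSES.mkLES F₀
  let T := (Groth.L10.RDerSES.mkLES (ModSite.sectOn O U) : RDer.DerivedLES (ModSite.sectOn O U)).toCohDeltaFunctor
  let T' : DeltaF.CohDeltaFunctor (ModSite.Mod O') (ModSite.Mod O) ℕ :=
    { F := fun n => rsc φ ⋙ T.F n
      additive := fun n => haveI := T.additive n; inferInstance
      δ := fun S hS n₀ n₁ h => T.δ (S.map (rsc φ)) (hS.map_of_exact _) n₀ n₁ h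
      δ_natural := fun hS hS' ψ n₀ n₁ h =>
        T.δ_natural (hS.map_of_exact (rsc φ)) (hS'.map_of_exact (rsc φ)) ((rsc φ).mapShortComplex.map ψ) n₀ n₁ h
      exact₂ := fun S hS n => T.exact₂ (S.map (rsc φ)) (hS.map_of_exact _) n
      comp_δ := fun S hS n₀ n₁ h => T.comp_δ (S.map (rsc φ)) (hS.map_of_exact _) n₀ n₁ h
      exact₃ := fun S hS n₀ n₁ h => T.exact₃ (S.map (rsc φ)) (hS.map_of_exact _) n₀ n₁ h
      δ_comp := fun S hS n₀ n₁ h => T.δ_comp (S.map (rsc φ)) (hS.map_of_exact _) n₀ n₁ h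
      exact₁ := fun S hS n₀ n₁ h => T.exact₁ (S.map (rsc φ)) (hS.map_of_exact _) n₀ n₁ h }
  have hT' : T'.IsUniversal := Groth.L10.DeltaUniv.s6773 ((Groth.L10.DeltaUniv.s14349 T').2 fun n I hI =>
    haveI := hI
    Groth.L15.SectAcyclic.isZero_HZsh (O := O) U ((rsc φ).obj I) (Groth.L10.InjTA.isTotallyAcyclic O' I) n)
  have hΔ : Δ.toCohDeltaFunctor.IsUniversal := Groth.L10.DeltaUniv.s6773
    ((Groth.L10.DeltaUniv.s14349 _).2 fun n I hI => haveI := hI; Functor.isZero_rightDerived_obj_injective_succ F₀ n I)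
  obtain ⟨ψ, -, -⟩ := Groth.L10.DeltaUniv.s6774 Δ.toCohDeltaFunctor T' hΔ hT'
    (F₀.rightDerivedZeroIsoSelf ≪≫ Functor.isoWhiskerLeft (rsc φ) (ModSite.sectOn O U).rightDerivedZeroIsoSelf.symm)
  let e : F₀.rightDerived q ≅ rsc φ ⋙ ModSite.HZsh O U q :=
    { hom := ψ.hom.app q
      inv := ψ.inv.app q
      hom_inv_id := congrArg (fun f => DeltaF.CohDeltaFunctor.Hom.app f q) ψ.hom_inv_id
      inv_hom_id := congrArg (fun f => DeltaF.CohDeltaFunctor.Hom.app f q) ψ.inv_hom_id }
  exact ⟨(Groth.L15.ModTensor.postcompIso (ModSite.sectOn O' U) (rsc φ) q).symm ≪≫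
    Groth.L15.ModTensor.rdIso (sectOnIso φ U) q ≪≫ e⟩

end Groth.L10.SuppScalars
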